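import Mathlib

/-!
# Perfect closures of algebras in characteristic `p`
-/

open TensorProduct

namespace Groth.Agent.PerfectionLib

universe u

variable {p : ℕ} [hp : Fact p.Prime]

theorem pow_inj {R : Type*} [CommRing R] [CharP R p] [PerfectRing R p] {n : ℕ} {x y : R}
    (h : x ^ p ^ n = y ^ p ^ n) : x = y :=
  (iterateFrobeniusEquiv R p n).injective (by rw [iterateFrobeniusEquiv_def, iterateFrobeniusEquiv_def, h])

theorem eq_zero_of_nilpotent {R : Type*} [CommRing R] [CharP R p] [PerfectRing R p] {x : R}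
    (h : IsNilpotent x) : x = 0 := by
  obtain ⟨m, hm⟩ := h
  refine pow_inj (p := p) (n := m) ?_
  rw [zero_pow (pow_ne_zero _ hp.out.ne_zero), pow_eq_zero_of_le (Nat.lt_pow_self hp.out.one_lt).le hm]

theorem exists_root {R : Type*} [CommRing R] [CharP R p] [PerfectRing R p] (x : R) (n : ℕ) :
    ∃ y, y ^ p ^ n = x := by
  obtain ⟨y, hy⟩ := (iterateFrobeniusEquiv R p n).surjective x
  exact ⟨y, by rwa [iterateFrobeniusEquiv_def] at hy⟩

theorem exists_pow_mem {A A' : Type*} [CommRing A] [CommRing A'] (i : A →+* A') [IsPRadical i p] (x : A') :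
    ∃ n a, i a = x ^ p ^ n := IsPRadical.pow_mem i p x

theorem nilpotent_of_eq_zero {A A' : Type*} [CommRing A] [CommRing A'] (i : A →+* A') [IsPRadical i p] {x : A}
    (h : i x = 0) : IsNilpotent x :=
  pNilradical_le_nilradical (IsPRadical.ker_le i p h)

section Square

variable {A B A' B' : Type u} [CommRing A] [CommRing B] [CommRing A'] [CommRing B'] [CharP A' p] [CharP B' p]
  [Algebra A B] [Algebra A A'] [Algebra B B'] [Algebra A B'] [IsScalarTower A B B']
  [IsPRadical (algebraMap A A') p] [IsPRadical (algebraMap B B') p] (φ' : A' →ₐ[A] B')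

/-- The comparison map `A' ⊗ B → B'`. -/
noncomputable def cmp : A' ⊗[A] B →ₐ[A] B' :=
  Algebra.TensorProduct.lift φ' (IsScalarTower.toAlgHom A B B') (fun _ _ => Commute.all _ _)

theorem cmp_right (b : B) : cmp φ' (1 ⊗ₜ b) = algebraMap B B' b := by
  rw [cmp, Algebra.TensorProduct.lift_tmul, map_one, one_mul]
  rfl

include hp in
theorem pow_mem_right [CharP A p] (t : A' ⊗[A] B) :
    ∃ N b, t ^ p ^ N = (1 : A') ⊗ₜ[A] b := by
  have hp0 : (p : A' ⊗[A] B) = 0 := by rw [← map_natCast (algebraMap A (A' ⊗[A] B)), CharP.cast_eq_zero, map_zero]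
  have hadd : ∀ (N : ℕ) (s t : A' ⊗[A] B), (s + t) ^ p ^ N = s ^ p ^ N + t ^ p ^ N := fun N s t => by
    rcases subsingleton_or_nontrivial (A' ⊗[A] B) with h | h
    · exact Subsingleton.elim _ _
    · haveI : CharP (A' ⊗[A] B) p := (CharP.charP_iff_prime_eq_zero (R := A' ⊗[A] B) hp.out).2 hp0
      exact add_pow_char_pow s t p N
  induction t using TensorProduct.induction_on with
  | zero => exact ⟨1, 0, by rw [TensorProduct.tmul_zero, zero_pow (pow_ne_zero _ hp.out.ne_zero)]⟩
  | tmul a b =>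
    obtain ⟨n, a₀, ha⟩ := exists_pow_mem (p := p) (algebraMap A A') a
    refine ⟨n, a₀ • b ^ p ^ n, ?_⟩
    rw [Algebra.TensorProduct.tmul_pow, ← ha, Algebra.algebraMap_eq_smul_one, TensorProduct.smul_tmul]
  | add s t hs ht =>
    obtain ⟨N, b, hb⟩ := hs
    obtain ⟨M, c, hc⟩ := ht
    refine ⟨N + M, b ^ p ^ M + c ^ p ^ N, ?_⟩
    rw [hadd, pow_add, pow_mul, hb, mul_comm, pow_mul, hc, Algebra.TensorProduct.tmul_pow,
      Algebra.TensorProduct.tmul_pow, one_pow, one_pow, TensorProduct.tmul_add]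

include hp in
theorem nilpotent_of_cmp_eq_zero [CharP A p] {t : A' ⊗[A] B} (h : cmp φ' t = 0) : IsNilpotent t := by
  obtain ⟨N, b, hb⟩ := pow_mem_right (p := p) t
  have h1 : algebraMap B B' b = 0 := by
    rw [← cmp_right φ', ← hb, map_pow, h, zero_pow (pow_ne_zero _ hp.out.ne_zero)]
  obtain ⟨m, hm⟩ := nilpotent_of_eq_zero (p := p) (algebraMap B B') h1
  exact ⟨p ^ N * m, by rw [pow_mul, hb, Algebra.TensorProduct.tmul_pow, hm, TensorProduct.tmul_zero]⟩

include hp in
theorem cmp_pow_surjective (x : B') : ∃ (n : ℕ) (t : A' ⊗[A] B), cmp φ' t = x ^ p ^ n := by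
  obtain ⟨n, b, hb⟩ := exists_pow_mem (p := p) (algebraMap B B') x
  exact ⟨n, 1 ⊗ₜ b, by rw [cmp_right, hb]⟩

include hp in
theorem bijective_of_perfect [CharP A p] [PerfectRing B' p] [CharP (A' ⊗[A] B) p] [PerfectRing (A' ⊗[A] B) p] :
    Function.Bijective (cmp (B := B) φ') := by
  refine ⟨(injective_iff_map_eq_zero _).2 fun t ht => eq_zero_of_nilpotent (p := p) (nilpotent_of_cmp_eq_zero (p := p) φ' ht), fun x => ?_⟩
  obtain ⟨n, t, ht⟩ := cmp_pow_surjective (B := B) (p := p) φ' x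
  obtain ⟨s, rfl⟩ := exists_root (p := p) t n
  exact ⟨s, pow_inj (p := p) (n := n) (by rw [← map_pow, ht])⟩

include hp in
theorem flat [CharP A p] [PerfectRing A' p] [PerfectRing B' p] [Module.Flat A B] : φ'.toRingHom.Flat := by
  letI := φ'.toRingHom.toAlgebra
  show Module.Flat A' B'
  have hcmp : ∀ (a : A') (t : A' ⊗[A] B), cmp φ' (a • t) = φ' a * cmp φ' t := fun a t => by
    rw [Algebra.smul_def, map_mul]
    congr 1
    rw [show algebraMap A' (A' ⊗[A] B) a = a ⊗ₜ 1 from rfl, cmp, Algebra.TensorProduct.lift_tmul, map_one, mul_one]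
  rw [Module.Flat.iff_forall_isTrivialRelation]
  intro l f x h
  choose n b hb using fun i => exists_pow_mem (p := p) (algebraMap B B') (x i)
  let N := Finset.univ.sup n
  let t : Fin l → A' ⊗[A] B := fun i => (1 : A') ⊗ₜ (b i ^ p ^ (N - n i))
  have ht : ∀ i, cmp φ' (t i) = x i ^ p ^ N := fun i => by
    rw [cmp_right, map_pow, hb, ← pow_mul, ← pow_add, Nat.add_sub_cancel' (Finset.le_sup (Finset.mem_univ i))]
  have hsum : cmp φ' (∑ i, f i ^ p ^ N • t i) = 0 := by
    rw [map_sum]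
    simp only [hcmp, ht, map_pow, ← mul_pow]
    rw [← sum_pow_char_pow]
    have h' : ∑ i, φ' (f i) * x i = 0 := h
    rw [h', zero_pow (pow_ne_zero _ hp.out.ne_zero)]
  obtain ⟨m, hm⟩ := nilpotent_of_cmp_eq_zero (p := p) φ' hsum
  rcases subsingleton_or_nontrivial (A' ⊗[A] B) with hss | hnt
  · refine ⟨0, fun _ => Fin.elim0, Fin.elim0, fun i => ?_, fun j => j.elim0⟩
    have : cmp φ' (1 : A' ⊗[A] B) = 0 := by rw [Subsingleton.elim (1 : A' ⊗[A] B) 0, map_zero]
    rw [map_one] at this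
    exact (mul_one (x i)).symm.trans (by rw [this, mul_zero]; simp)
  haveI : CharP (A' ⊗[A] B) p := (CharP.charP_iff_prime_eq_zero hp.out).2
    (by rw [← map_natCast (algebraMap A (A' ⊗[A] B)), CharP.cast_eq_zero, map_zero])
  have hm' : ∑ i, f i ^ p ^ (N + m) • t i ^ p ^ m = 0 := by
    have h2 := pow_eq_zero_of_le (Nat.lt_pow_self hp.out.one_lt).le hm
    rw [sum_pow_char_pow] at h2
    refine Eq.trans (Finset.sum_congr rfl fun i _ => ?_) h2
    rw [Algebra.smul_def, Algebra.smul_def, mul_pow, ← map_pow, ← pow_mul, ← pow_add]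
  obtain ⟨k, c, y, hy, hc⟩ := Module.Flat.isTrivialRelation_of_sum_smul_eq_zero hm'
  choose c' hc' using fun i j => exists_root (p := p) (c i j) (N + m)
  choose y' hy' using fun j => exists_root (p := p) (cmp φ' (y j)) (N + m)
  refine ⟨k, c', y', fun i => ?_, fun j => ?_⟩
  · refine pow_inj (p := p) (n := N + m) ?_
    rw [sum_pow_char_pow, pow_add, pow_mul, ← ht, ← map_pow, show t i ^ p ^ m = _ from hy i, map_sum]
    refine Finset.sum_congr rfl fun j _ => ?_
    rw [hcmp, Algebra.smul_def, mul_pow, ← pow_add, hy', ← hc', map_pow]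
    rfl
  · refine pow_inj (p := p) (n := N + m) ?_
    rw [sum_pow_char_pow, zero_pow (pow_ne_zero _ hp.out.ne_zero), ← hc j]
    exact Finset.sum_congr rfl fun i _ => by rw [mul_pow, hc']

end Square

theorem comap_bijective {A A' : Type u} [CommRing A] [CommRing A'] (i : A →+* A') [IsPRadical i p] :
    Function.Bijective (PrimeSpectrum.comap i) := by
  constructor
  · intro P Q h
    refine PrimeSpectrum.ext (Ideal.ext fun x => ?_)
    obtain ⟨n, a, ha⟩ := exists_pow_mem (p := p) i x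
    have h1 : i a ∈ P.asIdeal ↔ i a ∈ Q.asIdeal := SetLike.ext_iff.1 (congrArg PrimeSpectrum.asIdeal h) a
    rw [ha, P.2.pow_mem_iff_mem _ (pow_pos hp.out.pos _), Q.2.pow_mem_iff_mem _ (pow_pos hp.out.pos _)] at h1
    exact h1
  · intro q
    letI := i.toAlgebra
    haveI : Algebra.IsIntegral A A' := ⟨fun x => by
      obtain ⟨n, a, ha⟩ := exists_pow_mem (p := p) i x
      refine IsIntegral.of_pow (n := p ^ n) (pow_pos hp.out.pos _) ?_
      rw [← ha]; exact isIntegral_algebraMap⟩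
    obtain ⟨Q, -, hQ, hQc⟩ := Ideal.exists_ideal_over_prime_of_isIntegral q.asIdeal (⊥ : Ideal A') (fun x hx => by
      obtain ⟨m, hm⟩ := nilpotent_of_eq_zero (p := p) i hx
      exact q.2.mem_of_pow_mem m (hm ▸ zero_mem _))
    exact ⟨⟨Q, hQ⟩, PrimeSpectrum.ext hQc⟩

end Groth.Agent.PerfectionLib
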