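import Groth.Agent.PerfectionLib.Basic
import Groth.Agent.UnivHomeo.Criteria

/-!
# Maps of perfect closures
-/

open CategoryTheory AlgebraicGeometry

namespace Groth.Agent.PerfectionLib

universe u

variable {p : ℕ} [hp : Fact p.Prime] {A B A' B' : Type u} [CommRing A] [CommRing B] [CommRing A'] [CommRing B']
  [CharP A p] [CharP B p] [CharP A' p] [CharP B' p] [PerfectRing A' p] [PerfectRing B' p]
  (φ : A →+* B) (i : A →+* A') (j : B →+* B') [IsPerfectClosure i p] [IsPerfectClosure j p]
  (φ' : A' →+* B') (hφ : φ'.comp i = j.comp φ)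

include hp hφ

theorem integral_iff : φ.IsIntegral ↔ φ'.IsIntegral := by
  letI := φ.toAlgebra
  letI := φ'.toAlgebra
  letI := i.toAlgebra
  letI algAB' : Algebra A B' := (j.comp φ).toAlgebra
  haveI : IsScalarTower A A' B' := IsScalarTower.of_algebraMap_eq fun a => (RingHom.congr_fun hφ a).symm
  constructor
  · intro h x
    obtain ⟨n, b, hb⟩ := exists_pow_mem (p := p) j x
    show IsIntegral A' x
    refine IsIntegral.of_pow (n := p ^ n) (pow_pos hp.out.pos _) ?_
    rw [← hb]
    have h1 : IsIntegral A b := h b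
    let jA : B →ₐ[A] B' := { toRingHom := j, commutes' := fun a => rfl }
    exact (h1.map jA).tower_top
  · intro h b
    show IsIntegral A b
    haveI : Algebra.IsIntegral A A' := ⟨fun x => by
      obtain ⟨n, a, ha⟩ := exists_pow_mem (p := p) i x
      refine IsIntegral.of_pow (n := p ^ n) (pow_pos hp.out.pos _) ?_
      rw [← ha]; exact isIntegral_algebraMap⟩
    have h1 : IsIntegral A (j b) := isIntegral_trans (R := A) (j b) (h (j b))
    obtain ⟨P, hP, hPb⟩ := h1
    have h2 : j (Polynomial.eval₂ φ b P) = 0 := by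
      rw [Polynomial.hom_eval₂]; exact hPb
    obtain ⟨m, hm⟩ := nilpotent_of_eq_zero (p := p) j h2
    refine ⟨P ^ m, hP.pow m, ?_⟩
    show Polynomial.eval₂ φ b (P ^ m) = 0
    rw [Polynomial.eval₂_pow, hm]


theorem comap_surjective_iff : Function.Surjective (PrimeSpectrum.comap φ) ↔ Function.Surjective (PrimeSpectrum.comap φ') := by
  have hc : PrimeSpectrum.comap i ∘ PrimeSpectrum.comap φ' = PrimeSpectrum.comap φ ∘ PrimeSpectrum.comap j := by
    funext q
    refine PrimeSpectrum.ext ?_
    show Ideal.comap i (Ideal.comap φ' q.asIdeal) = Ideal.comap φ (Ideal.comap j q.asIdeal)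
    rw [Ideal.comap_comap, Ideal.comap_comap, hφ]
  have hi := comap_bijective (p := p) i
  have hj := comap_bijective (p := p) j
  constructor
  · intro h q
    obtain ⟨b, hb⟩ := h (PrimeSpectrum.comap i q)
    obtain ⟨b', rfl⟩ := hj.2 b
    exact ⟨b', hi.1 ((congrFun hc b').trans hb)⟩
  · intro h q
    obtain ⟨a', rfl⟩ := hi.2 q
    obtain ⟨b', rfl⟩ := h a'
    exact ⟨_, (congrFun hc b').symm⟩

theorem isUnivHomeo_iff :
    FlatMor.IsUnivHomeo (Spec.map (CommRingCat.ofHom φ)) ↔ Function.Bijective φ' := by
  constructor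
  · intro h
    haveI := Groth.Agent.UnivHomeo.surjective h
    have hs : Function.Surjective (PrimeSpectrum.comap φ') :=
      (comap_surjective_iff φ i j φ' hφ).1 (Surjective.surj (f := Spec.map (CommRingCat.ofHom φ)))
    have hint : φ'.IsIntegral := (integral_iff φ i j φ' hφ).1
      (IsIntegralHom.SpecMap_iff.1 (Groth.Agent.UnivHomeo.isIntegralHom h))
    haveI := Groth.Agent.UnivHomeo.universallyInjective h
    have hinj : Function.Injective φ' := (injective_iff_map_eq_zero φ').2 fun a ha => by
      refine eq_zero_of_nilpotent (p := p) (nilpotent_iff_mem_prime.2 fun P hP => ?_)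
      obtain ⟨Q, hQ⟩ := hs ⟨P, hP⟩
      rw [show P = Ideal.comap φ' Q.asIdeal from (congrArg PrimeSpectrum.asIdeal hQ).symm, Ideal.mem_comap, ha]
      exact zero_mem _
    refine ⟨hinj, fun x => ?_⟩
    letI := φ'.toAlgebra
    haveI : Algebra.IsIntegral A' B' := ⟨hint⟩
    haveI : UniversallyInjective (Spec.map (CommRingCat.ofHom (algebraMap A' B'))) := by
      refine ((tfae_universallyInjective _).out 1 0 :
        (∀ (K : Type u) [Field K], Function.Injective fun g : Spec (.of K) ⟶ _ => g ≫ _) ↔
          UniversallyInjective (Spec.map (CommRingCat.ofHom (algebraMap A' B')))).mp fun K _ g g' hg => ?_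
      have hUI := ((tfae_universallyInjective (Spec.map (CommRingCat.ofHom φ))).out 0 1 :
        UniversallyInjective (Spec.map (CommRingCat.ofHom φ)) ↔
          ∀ (K : Type u) [Field K], Function.Injective fun g : Spec (.of K) ⟶ _ => g ≫ Spec.map (CommRingCat.ofHom φ)).mp
            inferInstance K
      obtain ⟨g, rfl⟩ := Spec.map_surjective g
      obtain ⟨g', rfl⟩ := Spec.map_surjective g'
      have hg' : CommRingCat.ofHom (algebraMap A' B') ≫ g = CommRingCat.ofHom (algebraMap A' B') ≫ g' :=
        Spec.map_injective (by simpa only [Spec.map_comp] using hg)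
      have hj : CommRingCat.ofHom j ≫ g = CommRingCat.ofHom j ≫ g' := by
        refine Spec.map_injective (hUI ?_)
        simp only [← Spec.map_comp]
        refine congrArg Spec.map (CommRingCat.hom_ext (RingHom.ext fun a => ?_))
        show g (j (φ a)) = g' (j (φ a))
        rw [show j (φ a) = φ' (i a) from (RingHom.congr_fun hφ a).symm]
        exact congrArg (fun q : CommRingCat.of A' ⟶ CommRingCat.of K => q (i a)) hg'
      refine congrArg Spec.map (CommRingCat.hom_ext (RingHom.ext fun y => ?_))
      obtain ⟨n, b, hb⟩ := exists_pow_mem (p := p) j y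
      have hK : (g.hom y) ^ p ^ n = (g'.hom y) ^ p ^ n := by
        rw [← map_pow, ← map_pow, ← hb]
        exact congrArg (fun q : CommRingCat.of B ⟶ CommRingCat.of K => q b) hj
      haveI : CharP K p := by
        refine (CharP.charP_iff_prime_eq_zero hp.out).2 ?_
        rw [← map_natCast g.hom p, show ((p : ℕ) : B') = 0 from CharP.cast_eq_zero B' p, map_zero]
      exact iterateFrobenius_inj K p n hK
    have hx := Groth.Agent.UnivHomeo.reach_eq_top (A := A') (B := B') (weak := True) (Or.inl trivial) x
    obtain ⟨l, hl, hb⟩ := hx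
    have hmem : x ∈ (⊥ : Subalgebra A' B') := by
      refine Groth.Agent.UnivHomeo.le_of_step ⊥ (fun y hy => ?_) hl hb
      have hrt : y ^ p ∈ (⊥ : Subalgebra A' B') → y ∈ (⊥ : Subalgebra A' B') := fun h => by
        obtain ⟨a, ha⟩ := Algebra.mem_bot.1 h
        obtain ⟨r, hr⟩ := exists_root (p := p) a 1
        refine Algebra.mem_bot.2 ⟨r, pow_inj (p := p) (n := 1) ?_⟩
        rw [← map_pow, hr, pow_one]; exact ha
      rcases hy with ⟨h2, h3⟩ | ⟨-, q, hq, h1, h2⟩
      · refine hrt ?_
        rcases hp.out.eq_two_or_odd' with rfl | ⟨m, hm⟩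
        · exact h2
        · have : 1 ≤ m := by have := hp.out.two_le; omega
          rw [show p = 2 * (m - 1) + 3 by omega, pow_add, pow_mul]
          exact mul_mem (pow_mem h2 _) h3
      · by_cases hqp : q = p
        · subst hqp; exact hrt h2
        · have hu : IsUnit (q : A') := (CharP.isUnit_natCast_iff hp.out).2
            fun hd => hqp ((hq.dvd_iff_eq hp.out.ne_one).1 hd)
          obtain ⟨v, hv⟩ := hu
          have h3 : (v⁻¹ : A'ˣ).1 • ((q : B') * y) ∈ (⊥ : Subalgebra A' B') := Subalgebra.smul_mem _ h1 _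
          rwa [Algebra.smul_def, ← mul_assoc, ← map_natCast (algebraMap A' B') q, ← map_mul, ← hv, Units.inv_mul,
            map_one, one_mul] at h3
    obtain ⟨a, ha⟩ := Algebra.mem_bot.1 hmem
    exact ⟨a, ha⟩
  · intro h
    haveI : IsIntegralHom (Spec.map (CommRingCat.ofHom φ)) :=
      IsIntegralHom.SpecMap_iff.2 ((integral_iff φ i j φ' hφ).2 (RingHom.IsIntegral.of_finite (RingHom.Finite.of_surjective φ' h.2)))
    haveI : Surjective (Spec.map (CommRingCat.ofHom φ)) :=
      ⟨(comap_surjective_iff φ i j φ' hφ).2 fun q => ⟨PrimeSpectrum.comap (RingEquiv.ofBijective φ' h).symm.toRingHom q, by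
        refine PrimeSpectrum.ext (Ideal.ext fun a => ?_)
        show (RingEquiv.ofBijective φ' h).symm (φ' a) ∈ q.asIdeal ↔ _
        rw [show (RingEquiv.ofBijective φ' h).symm (φ' a) = a from (RingEquiv.ofBijective φ' h).symm_apply_apply a]⟩⟩
    haveI : UniversallyInjective (Spec.map (CommRingCat.ofHom φ)) := by
      refine ((tfae_universallyInjective _).out 1 0 :
        (∀ (K : Type u) [Field K], Function.Injective fun g : Spec (.of K) ⟶ _ => g ≫ _) ↔
          UniversallyInjective (Spec.map (CommRingCat.ofHom φ))).mp fun K _ g g' hg => ?_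
      obtain ⟨g, rfl⟩ := Spec.map_surjective g
      obtain ⟨g', rfl⟩ := Spec.map_surjective g'
      have hg' : CommRingCat.ofHom φ ≫ g = CommRingCat.ofHom φ ≫ g' :=
        Spec.map_injective (by simpa only [Spec.map_comp] using hg)
      haveI : CharP K p := by
        refine (CharP.charP_iff_prime_eq_zero hp.out).2 ?_
        rw [← map_natCast g.hom p, show ((p : ℕ) : B) = 0 from CharP.cast_eq_zero B p, map_zero]
      refine congrArg Spec.map (CommRingCat.hom_ext (RingHom.ext fun b => ?_))
      obtain ⟨a', ha'⟩ := h.2 (j b)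
      obtain ⟨n, a, ha⟩ := exists_pow_mem (p := p) i a'
      have h0 : j (b ^ p ^ n - φ a) = 0 := by
        rw [map_sub, map_pow, ← ha', ← map_pow, ← ha, show φ' (i a) = j (φ a) from RingHom.congr_fun hφ a, sub_self]
      obtain ⟨m, hm⟩ := nilpotent_of_eq_zero (p := p) j h0
      have hn : ∀ e : CommRingCat.of B ⟶ CommRingCat.of K, e.hom b ^ p ^ n = e.hom (φ a) := fun e => by
        have h1 : (e.hom b ^ p ^ n - e.hom (φ a)) ^ m = 0 := by
          rw [← map_pow, ← map_sub, ← map_pow e.hom, hm, map_zero]
        exact sub_eq_zero.1 (eq_zero_of_pow_eq_zero h1)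
      refine iterateFrobenius_inj K p n ?_
      rw [iterateFrobenius_def, iterateFrobenius_def, hn, hn]
      exact congrArg (fun q : CommRingCat.of A ⟶ CommRingCat.of K => q a) hg'
    exact Groth.Agent.UnivHomeo.of_isIntegralHom _

end Groth.Agent.PerfectionLib
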